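import Groth.Agent.Lib.EtSite.UnitStalk
import Groth.Agent.Lib.EtSite.FieldExt
import Groth.Agent.Lib.EtSite.BaseChange
import Groth.Agent.Lib.EtSite.Push

/-!
Sections of inverse images along universally submersive morphisms with connected geometric fibres.
-/

set_option autoImplicit false

universe u

open CategoryTheory CategoryTheory.Limits AlgebraicGeometry Opposite

noncomputable section

namespace Groth.Agent.Lib.EtSubmersive.Basic

open Groth.Agent.Lib.EtSite Groth.Agent.Lib.EtSite.Basic Groth.Agent.Lib.EtSite.PushStalk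

variable {X S : Scheme.{u}} (f : X ⟶ S) (F : EtCoh.Ab S)

/-- The inverse image. -/
abbrev G : EtCoh.Ab X := (EtCoh.pull f).obj F

/-- The unit on sections. -/
abbrev unitApp (V : S.Etale) (a : F.obj.obj (op V)) : (G f F).obj.obj (op ((EtCoh.bc f).obj V)) :=
  ((EtCoh.pullPushAdj f).unit.app F).hom.app (op V) a

theorem unitApp_map {V W : S.Etale} (g : W ⟶ V) (a : F.obj.obj (op V)) :
    unitApp f F W (F.obj.map g.op a) = (G f F).obj.map ((EtCoh.bc f).map g).op (unitApp f F V a) :=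
  NatTrans.naturality_apply ((EtCoh.pullPushAdj f).unit.app F).hom g.op a

/-- The map from the stalk of `F` to that of its inverse image. -/
def germUnit {Ω : Type u} [Field Ω] [IsSepClosed Ω] {η : Spec (CommRingCat.of Ω) ⟶ S}
    {ξ : Spec (CommRingCat.of Ω) ⟶ X} (h : ξ ≫ f = η) :
    (Scheme.pointSmallEtale η).sheafFiber.obj F ⟶ (Scheme.pointSmallEtale ξ).sheafFiber.obj (G f F) :=
  (Scheme.pointSmallEtale η).sheafFiber.map ((EtCoh.pullPushAdj f).unit.app F) ≫
    (germTo f AddCommGrpCat.{u + 1} h).app (G f F)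

theorem bijective_germUnit {Ω : Type u} [Field Ω] [IsSepClosed Ω]
    {η : Spec (CommRingCat.of Ω) ⟶ S} {ξ : Spec (CommRingCat.of Ω) ⟶ X} (h : ξ ≫ f = η) :
    Function.Bijective (germUnit f F h) := by
  subst h
  have : IsIso (germUnit f F (rfl : ξ ≫ f = ξ ≫ f)) :=
    UnitStalk.isIso_unitStalk f ξ AddCommGrpCat.{u + 1} F
  exact (ConcreteCategory.isIso_iff_bijective _).1 this

theorem germUnit_germ {Ω : Type u} [Field Ω] [IsSepClosed Ω]
    {η : Spec (CommRingCat.of Ω) ⟶ S} {ξ : Spec (CommRingCat.of Ω) ⟶ X} (h : ξ ≫ f = η)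
    (V : S.Etale) (p : (Scheme.pointSmallEtale η).fiber.obj V) (a : F.obj.obj (op V)) :
    germUnit f F h ((Scheme.pointSmallEtale η).toPresheafFiber V p F.obj a) =
      (Scheme.pointSmallEtale ξ).toPresheafFiber ((EtCoh.bc f).obj V) (liftPt f h V p) (G f F).obj
        (unitApp f F V a) := by
  refine Eq.trans ?_ (germTo_toPresheafFiber f h (G f F) V p (unitApp f F V a))
  refine congrArg ((germTo f AddCommGrpCat.{u + 1} h).app (G f F)) ?_
  exact (Scheme.pointSmallEtale η).toPresheafFiber_naturality_apply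
    ((EtCoh.pullPushAdj f).unit.app F).hom V p a

/-- The agreement locus of two sections. -/
abbrev agree {Z : Scheme.{u}} (H : EtCoh.Ab Z) (T : Z.Etale) (s t : H.obj.obj (op T)) : Set T.left :=
  {x : T.left | ∃ (W : Z.Etale) (a : W ⟶ T), H.obj.map a.op s = H.obj.map a.op t ∧
    x ∈ Set.range a.left.base}

variable (t : (G f F).obj.obj (op ((EtCoh.bc f).obj (EtCoh.top S))))

/-- The map of an object to the final one. -/
abbrev toTop (V : S.Etale) : V ⟶ EtCoh.top S :=
  MorphismProperty.Over.homMk V.hom (Category.comp_id _)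

/-- The restriction of the given section. -/
abbrev tRes (V : S.Etale) : (G f F).obj.obj (op ((EtCoh.bc f).obj V)) :=
  (G f F).obj.map ((EtCoh.bc f).map (toTop V)).op t

theorem tRes_map {V W : S.Etale} (g : W ⟶ V) :
    tRes f F t W = (G f F).obj.map ((EtCoh.bc f).map g).op (tRes f F t V) := by
  have e : g ≫ toTop V = toTop W := MorphismProperty.Over.Hom.ext (Over.w g.hom)
  simp only [tRes]
  rw [← ConcreteCategory.comp_apply, ← Functor.map_comp, ← op_comp, ← Functor.map_comp, e]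

/-- The section of the inverse image has, at the lift of `p`, the germ of `a`. -/
def SameGerm {Ω : Type u} [Field Ω] [IsSepClosed Ω] {η : Spec (CommRingCat.of Ω) ⟶ S}
    {ξ : Spec (CommRingCat.of Ω) ⟶ X} (h : ξ ≫ f = η) (V : S.Etale)
    (p : (Scheme.pointSmallEtale η).fiber.obj V) (a : F.obj.obj (op V)) : Prop :=
  (Scheme.pointSmallEtale ξ).toPresheafFiber _ (liftPt f h V p) (G f F).obj (tRes f F t V) =
    (Scheme.pointSmallEtale ξ).toPresheafFiber _ (liftPt f h V p) (G f F).obj (unitApp f F V a)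

theorem sameGerm_iff_mem {Ω : Type u} [Field Ω] [IsSepClosed Ω] {η : Spec (CommRingCat.of Ω) ⟶ S}
    {ξ : Spec (CommRingCat.of Ω) ⟶ X} (h : ξ ≫ f = η) (V : S.Etale)
    (p : (Scheme.pointSmallEtale η).fiber.obj V) (a : F.obj.obj (op V)) :
    SameGerm f F t h V p a ↔ fiberPt (liftPt f h V p) ∈
      agree (G f F) ((EtCoh.bc f).obj V) (tRes f F t V) (unitApp f F V a) :=
  BaseChange.toPresheafFiber_eq_iff_mem (G f F).obj _ _ _ _

theorem germ_tRes {Ω : Type u} [Field Ω] [IsSepClosed Ω] {η : Spec (CommRingCat.of Ω) ⟶ S}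
    {ξ : Spec (CommRingCat.of Ω) ⟶ X} (h : ξ ≫ f = η) {V W : S.Etale} (g : W ⟶ V)
    (q : (Scheme.pointSmallEtale η).fiber.obj W) :
    (Scheme.pointSmallEtale ξ).toPresheafFiber _ (liftPt f h W q) (G f F).obj (tRes f F t W) =
      (Scheme.pointSmallEtale ξ).toPresheafFiber _
        (liftPt f h V ((Scheme.pointSmallEtale η).fiber.map g q)) (G f F).obj (tRes f F t V) := by
  rw [tRes_map f F t g, ← map_liftPt f h g q]
  exact ((Scheme.pointSmallEtale ξ).toPresheafFiber_w_apply _ _ _ _)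

theorem sameGerm_map {Ω : Type u} [Field Ω] [IsSepClosed Ω] {η : Spec (CommRingCat.of Ω) ⟶ S}
    {ξ : Spec (CommRingCat.of Ω) ⟶ X} (h : ξ ≫ f = η) {V W : S.Etale} (g : W ⟶ V)
    (q : (Scheme.pointSmallEtale η).fiber.obj W) (a : F.obj.obj (op V)) :
    SameGerm f F t h W q (F.obj.map g.op a) ↔
      SameGerm f F t h V ((Scheme.pointSmallEtale η).fiber.map g q) a := by
  unfold SameGerm
  rw [germ_tRes f F t h g q, unitApp_map, ← map_liftPt f h g q,
    (Scheme.pointSmallEtale ξ).toPresheafFiber_w_apply ((EtCoh.bc f).map g) (liftPt f h W q)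
      (G f F).obj (unitApp f F V a)]

/-- Extension of a fibre point to a larger separably closed field. -/
abbrev extFiber {Ω : Type u} [Field Ω] [IsSepClosed Ω] (η : Spec (CommRingCat.of Ω) ⟶ S)
    (Ω' : Type u) [Field Ω'] [IsSepClosed Ω'] [Algebra Ω Ω'] (V : S.Etale)
    (p : (Scheme.pointSmallEtale η).fiber.obj V) :
    (Scheme.pointSmallEtale (FieldExt.extPoint η Ω')).fiber.obj V :=
  (FieldExt.fiberExtIso η Ω').hom.app V p

theorem map_extFiber {Ω : Type u} [Field Ω] [IsSepClosed Ω] (η : Spec (CommRingCat.of Ω) ⟶ S)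
    (Ω' : Type u) [Field Ω'] [IsSepClosed Ω'] [Algebra Ω Ω'] {V W : S.Etale} (g : W ⟶ V)
    (q : (Scheme.pointSmallEtale η).fiber.obj W) :
    (Scheme.pointSmallEtale (FieldExt.extPoint η Ω')).fiber.map g (extFiber η Ω' W q) =
      extFiber η Ω' V ((Scheme.pointSmallEtale η).fiber.map g q) :=
  (NatTrans.naturality_apply (FieldExt.fiberExtIso η Ω').hom g q).symm

/-- A geometric point over a point of a fibre, compatible with that of the fibre. -/
theorem exists_ext {Ω : Type u} [Field Ω] [IsSepClosed Ω] (η : Spec (CommRingCat.of Ω) ⟶ S)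
    (z : ↥(pullback f η)) :
    ∃ (Ω' : Type u) (_ : Field Ω') (_ : IsSepClosed Ω') (_ : Algebra Ω Ω')
      (ζ : Spec (CommRingCat.of Ω') ⟶ pullback f η),
      ζ.base default = z ∧
        ζ ≫ pullback.snd f η = Spec.map (CommRingCat.ofHom (algebraMap Ω Ω')) := by
  obtain ⟨φ, hφ⟩ := Spec.map_surjective (Push.algPoint (pullback f η) z ≫ pullback.snd f η)
  exact ⟨_, inferInstance, inferInstance, φ.hom.toAlgebra, Push.algPoint _ z,
    Push.algPoint_apply _ z default, hφ.symm⟩

/-- Whether the section has the germ of `a` is constant along connected geometric fibres. -/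
theorem const_on_fibre {Ω : Type u} [Field Ω] [IsSepClosed Ω] (η : Spec (CommRingCat.of Ω) ⟶ S)
    [PreconnectedSpace ↥(pullback f η)] (V : S.Etale) (p : (Scheme.pointSmallEtale η).fiber.obj V)
    (a : F.obj.obj (op V)) (m : pullback f η ⟶ ((EtCoh.bc f).obj V).left)
    (hm₁ : m ≫ pullback.fst V.hom f = pullback.snd f η ≫ fiberHom p)
    (hm₂ : m ≫ pullback.snd V.hom f = pullback.fst f η)
    (z₀ z : ↥(pullback f η))
    (hz₀ : m.base z₀ ∈ agree (G f F) _ (tRes f F t V) (unitApp f F V a)) :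
    m.base z ∈ agree (G f F) _ (tRes f F t V) (unitApp f F V a) := by
  classical
  let A : Set ↥(pullback f η) := m.base ⁻¹' agree (G f F) _ (tRes f F t V) (unitApp f F V a)
  have hopen : IsOpen A := (BaseChange.isOpen_agree _ _ _ _).preimage m.continuous
  have hclosed : IsOpen Aᶜ := by
    rw [isOpen_iff_forall_mem_open]
    intro w hw
    obtain ⟨Ω', hΩ', hΩ's, _, ζ, hζ, hζ'⟩ := exists_ext f η w
    let η' := FieldExt.extPoint η Ω'
    have hξ : (ζ ≫ pullback.fst f η) ≫ f = η' := by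
      rw [Category.assoc, pullback.condition, ← Category.assoc, hζ']
    obtain ⟨y, hy⟩ := (bijective_germUnit f F hξ).2
      ((Scheme.pointSmallEtale (ζ ≫ pullback.fst f η)).toPresheafFiber _
        (liftPt f hξ (EtCoh.top S) (mkFiber η' (EtCoh.top S) η' (Category.comp_id _)))
        (G f F).obj (tRes f F t (EtCoh.top S)))
    obtain ⟨V', q', a', rfl⟩ := (Scheme.pointSmallEtale η').toPresheafFiber_jointly_surjective y
    obtain ⟨p', rfl⟩ : ∃ p', extFiber η Ω' V' p' = q' :=
      ⟨(FieldExt.fiberExtIso η Ω').inv.app V' q',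
        ConcreteCategory.congr_hom ((FieldExt.fiberExtIso η Ω').inv_hom_id_app V') q'⟩
    have hsame : SameGerm f F t hξ V' (extFiber η Ω' V' p') a' := by
      unfold SameGerm
      rw [← germUnit_germ f F hξ]
      refine Eq.trans ?_ hy.symm
      refine (germ_tRes f F t hξ (toTop V') _).trans ?_
      have e : (Scheme.pointSmallEtale η').fiber.map (toTop V') (extFiber η Ω' V' p') =
          mkFiber η' (EtCoh.top S) η' (Category.comp_id _) :=
        Over.OverMorphism.ext (fiberHom_comp (extFiber η Ω' V' p'))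
      rw [e]
    let m' : pullback f η ⟶ ((EtCoh.bc f).obj V').left :=
      pullback.lift (pullback.snd f η ≫ fiberHom p') (pullback.fst f η) (by
        rw [Category.assoc, pullback.condition]
        exact congrArg (pullback.snd f η ≫ ·) (fiberHom_comp p'))
    have key : ∀ (V₁ : S.Etale) (p₁ : (Scheme.pointSmallEtale η).fiber.obj V₁)
        (m₁ : pullback f η ⟶ ((EtCoh.bc f).obj V₁).left)
        (_ : m₁ ≫ pullback.fst V₁.hom f = pullback.snd f η ≫ fiberHom p₁)
        (_ : m₁ ≫ pullback.snd V₁.hom f = pullback.fst f η)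
        (z' : ↥(pullback f η)) (Ω₁ : Type u) [Field Ω₁] [IsSepClosed Ω₁] [Algebra Ω Ω₁]
        (ζ₁ : Spec (CommRingCat.of Ω₁) ⟶ pullback f η) (hz' : ζ₁.base default = z')
        (hζ₁ : ζ₁ ≫ pullback.snd f η = Spec.map (CommRingCat.ofHom (algebraMap Ω Ω₁)))
        (hh : (ζ₁ ≫ pullback.fst f η) ≫ f = FieldExt.extPoint η Ω₁) (a₁ : F.obj.obj (op V₁)),
        SameGerm f F t hh V₁ (extFiber η Ω₁ V₁ p₁) a₁ ↔
          m₁.base z' ∈ agree (G f F) _ (tRes f F t V₁) (unitApp f F V₁ a₁) := by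
      intro V₁ p₁ m₁ e₁ e₂ z' Ω₁ _ _ _ ζ₁ hz' hζ₁ hh a₁
      rw [sameGerm_iff_mem]
      have e : fiberHom (liftPt f hh V₁ (extFiber η Ω₁ V₁ p₁)) = ζ₁ ≫ m₁ := by
        refine pullback.hom_ext ((pullback.lift_fst _ _ _).trans ?_)
          ((pullback.lift_snd _ _ _).trans ?_)
        · refine Eq.symm ((Category.assoc _ _ _).trans ((congrArg (ζ₁ ≫ ·) e₁).trans ?_))
          rw [← Category.assoc, hζ₁]
          rfl
        · exact ((Category.assoc _ _ _).trans (congrArg (ζ₁ ≫ ·) e₂)).symm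
      have e' : fiberPt (liftPt f hh V₁ (extFiber η Ω₁ V₁ p₁)) = m₁.base z' := by
        rw [← hz']
        exact congrArg (fun q => q.base default) e
      rw [e']
    have hm'₁ : m' ≫ pullback.fst V'.hom f = pullback.snd f η ≫ fiberHom p' := pullback.lift_fst _ _ _
    have hm'₂ : m' ≫ pullback.snd V'.hom f = pullback.fst f η := pullback.lift_snd _ _ _
    refine ⟨m'.base ⁻¹' agree (G f F) _ (tRes f F t V') (unitApp f F V' a'), ?_,
      (BaseChange.isOpen_agree _ _ _ _).preimage m'.continuous,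
      (key V' p' m' hm'₁ hm'₂ w Ω' ζ hζ hζ' hξ a').1 hsame⟩
    intro w' hw' hw'A
    obtain ⟨Ω₁, _, _, _, ζ₁, hζ₁, hζ₁'⟩ := exists_ext f η w'
    have hξ₁ : (ζ₁ ≫ pullback.fst f η) ≫ f = FieldExt.extPoint η Ω₁ := by
      rw [Category.assoc, pullback.condition, ← Category.assoc, hζ₁']
    have h1 := (key V p m hm₁ hm₂ w' Ω₁ ζ₁ hζ₁ hζ₁' hξ₁ a).2 hw'A
    have h2 := (key V' p' m' hm'₁ hm'₂ w' Ω₁ ζ₁ hζ₁ hζ₁' hξ₁ a').2 hw'
    -- a common refinement at `η`
    let W := IsCofiltered.min ((Scheme.pointSmallEtale η).fiber.elementsMk V p)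
      ((Scheme.pointSmallEtale η).fiber.elementsMk V' p')
    let g : W ⟶ (Scheme.pointSmallEtale η).fiber.elementsMk V p := IsCofiltered.minToLeft _ _
    let g' : W ⟶ (Scheme.pointSmallEtale η).fiber.elementsMk V' p' := IsCofiltered.minToRight _ _
    have hg : (Scheme.pointSmallEtale η).fiber.map g.1 W.2 = p := g.2
    have hg' : (Scheme.pointSmallEtale η).fiber.map g'.1 W.2 = p' := g'.2
    have hgext : ∀ (Ω₂ : Type u) [Field Ω₂] [IsSepClosed Ω₂] [Algebra Ω Ω₂],
        (Scheme.pointSmallEtale (FieldExt.extPoint η Ω₂)).fiber.map g.1 (extFiber η Ω₂ W.1 W.2) =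
          extFiber η Ω₂ V p ∧
        (Scheme.pointSmallEtale (FieldExt.extPoint η Ω₂)).fiber.map g'.1 (extFiber η Ω₂ W.1 W.2) =
          extFiber η Ω₂ V' p' := fun Ω₂ _ _ _ =>
      ⟨(map_extFiber η Ω₂ g.1 W.2).trans (congrArg (extFiber η Ω₂ V) hg),
        (map_extFiber η Ω₂ g'.1 W.2).trans (congrArg (extFiber η Ω₂ V') hg')⟩
    rw [← (hgext Ω₁).1, ← sameGerm_map] at h1
    rw [← (hgext Ω₁).2, ← sameGerm_map] at h2
    have h3 : (Scheme.pointSmallEtale (FieldExt.extPoint η Ω₁)).toPresheafFiber W.1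
          (extFiber η Ω₁ W.1 W.2) F.obj (F.obj.map g.1.op a) =
        (Scheme.pointSmallEtale (FieldExt.extPoint η Ω₁)).toPresheafFiber W.1
          (extFiber η Ω₁ W.1 W.2) F.obj (F.obj.map g'.1.op a') := by
      apply (bijective_germUnit f F hξ₁).1
      rw [germUnit_germ, germUnit_germ]
      exact h1.symm.trans h2
    have hpt : ∀ (Ω₂ : Type u) [Field Ω₂] [IsSepClosed Ω₂] [Algebra Ω Ω₂],
        fiberPt (extFiber η Ω₂ W.1 W.2) = fiberPt (U := W.1) W.2 := by
      intro Ω₂ _ _ _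
      change (fiberHom W.2).base ((Spec.map (CommRingCat.ofHom (algebraMap Ω Ω₂))).base default) = _
      exact congrArg (fiberHom W.2).base (Subsingleton.elim _ _)
    have h4 := (BaseChange.toPresheafFiber_eq_iff_mem F.obj W.1 _ _ (extFiber η Ω₁ W.1 W.2)).1 h3
    rw [hpt Ω₁, ← hpt Ω'] at h4
    have h5 := (BaseChange.toPresheafFiber_eq_iff_mem F.obj W.1 _ _ (extFiber η Ω' W.1 W.2)).2 h4
    have h6 : SameGerm f F t hξ W.1 (extFiber η Ω' W.1 W.2) (F.obj.map g'.1.op a') := by
      rw [sameGerm_map, (hgext Ω').2]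
      exact hsame
    have h7 : SameGerm f F t hξ W.1 (extFiber η Ω' W.1 W.2) (F.obj.map g.1.op a) := by
      unfold SameGerm at h6 ⊢
      rw [← germUnit_germ f F hξ] at h6 ⊢
      rw [h5]
      exact h6
    rw [sameGerm_map, (hgext Ω').1] at h7
    exact hw ((key V p m hm₁ hm₂ w Ω' ζ hζ hζ' hξ a).1 h7)
  rcases isClopen_iff.1 (⟨isOpen_compl_iff.1 hclosed, hopen⟩ : IsClopen A) with h | h
  · exact absurd (show z₀ ∈ A from hz₀) (h ▸ Set.notMem_empty z₀)
  · exact (h ▸ Set.mem_univ z : z ∈ A)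

end Groth.Agent.Lib.EtSubmersive.Basic
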