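import Groth.Agent.Lib.EtSubmersive.Basic

/-!
The unit of inverse image is bijective on sections for universally submersive morphisms with
connected geometric fibres.
-/

set_option autoImplicit false

universe u

open CategoryTheory CategoryTheory.Limits AlgebraicGeometry Opposite

noncomputable section

namespace Groth.Agent.Lib.EtSubmersive.Main

open Groth.Agent.Lib.EtSite Groth.Agent.Lib.EtSite.Basic Groth.Agent.Lib.EtSite.PushStalk
open Groth.Agent.Lib.EtSubmersive.Basic

variable {X S : Scheme.{u}} (f : X ⟶ S) (F : EtCoh.Ab S)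

theorem unitApp_injective (hf : Function.Surjective f.base) (V : S.Etale) :
    Function.Injective (unitApp f F V) := by
  intro a a' h
  refine Stalk.sections_ext_of_germ F a a' fun s => ?_
  obtain ⟨x, rfl⟩ := hf s
  refine ⟨_, inferInstance, inferInstance, Push.algPoint X x ≫ f, ?_, fun p => ?_⟩
  · exact congrArg f.base (Push.algPoint_apply X x default)
  · apply (bijective_germUnit f F (rfl : Push.algPoint X x ≫ f = _)).1
    rw [germUnit_germ, germUnit_germ, h]

/-- Etale locally on the base the section comes from the base. -/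
theorem exists_local
    (hsub : ∀ (S' : Scheme.{u}) (g : S' ⟶ S), Topology.IsQuotientMap (pullback.snd f g).base)
    (hc : ∀ (Ω : Type u) [Field Ω] [IsAlgClosed Ω] (s : Spec (CommRingCat.of Ω) ⟶ S),
      ConnectedSpace ↥(pullback f s))
    (t : (G f F).obj.obj (op ((EtCoh.bc f).obj (EtCoh.top S)))) (s : S) :
    ∃ (W : S.Etale) (a : F.obj.obj (op W)), tRes f F t W = unitApp f F W a ∧
      ∃ w : W.left, W.hom.base w = s := by
  classical
  let η := Push.algPoint S s
  have : ConnectedSpace ↥(pullback f η) := hc _ η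
  obtain ⟨z₀⟩ := (inferInstance : Nonempty ↥(pullback f η))
  obtain ⟨Ω', hΩ', hΩs, _, ζ, hζ, hζ'⟩ := exists_ext f η z₀
  let η' := FieldExt.extPoint η Ω'
  have hξ : (ζ ≫ pullback.fst f η) ≫ f = η' := by
    rw [Category.assoc, pullback.condition, ← Category.assoc, hζ']
  obtain ⟨y, hy⟩ := (bijective_germUnit f F hξ).2
    ((Scheme.pointSmallEtale (ζ ≫ pullback.fst f η)).toPresheafFiber _
      (liftPt f hξ (EtCoh.top S) (mkFiber η' (EtCoh.top S) η' (Category.comp_id _)))
      (G f F).obj (tRes f F t (EtCoh.top S)))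
  obtain ⟨V, q, a, rfl⟩ := (Scheme.pointSmallEtale η').toPresheafFiber_jointly_surjective y
  obtain ⟨p, rfl⟩ : ∃ p, extFiber η Ω' V p = q :=
    ⟨(FieldExt.fiberExtIso η Ω').inv.app V q,
      ConcreteCategory.congr_hom ((FieldExt.fiberExtIso η Ω').inv_hom_id_app V) q⟩
  have hsame : SameGerm f F t hξ V (extFiber η Ω' V p) a := by
    unfold SameGerm
    rw [← germUnit_germ f F hξ]
    refine Eq.trans ?_ hy.symm
    refine (germ_tRes f F t hξ (toTop V) _).trans ?_
    have e : (Scheme.pointSmallEtale η').fiber.map (toTop V) (extFiber η Ω' V p) =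
        mkFiber η' (EtCoh.top S) η' (Category.comp_id _) :=
      Over.OverMorphism.ext (fiberHom_comp (extFiber η Ω' V p))
    rw [e]
  let O : Set ((EtCoh.bc f).obj V).left := agree (G f F) _ (tRes f F t V) (unitApp f F V a)
  -- the fibre over the chosen point lies in the agreement locus
  have fibre : ∀ (w₁ w₂ : ((EtCoh.bc f).obj V).left),
      (pullback.fst V.hom f).base w₁ = (pullback.fst V.hom f).base w₂ → w₁ ∈ O → w₂ ∈ O := by
    intro w₁ w₂ h12 hw₁
    let v := (pullback.fst V.hom f).base w₁
    let η₁ := Push.algPoint S (V.hom.base v)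
    have : ConnectedSpace ↥(pullback f η₁) := hc _ η₁
    obtain ⟨p₁, hp₁⟩ := exists_fiber η₁ V v (Push.algPoint_apply S _ default).symm
    let m : pullback f η₁ ⟶ ((EtCoh.bc f).obj V).left :=
      pullback.lift (pullback.snd f η₁ ≫ fiberHom p₁) (pullback.fst f η₁) (by
        rw [Category.assoc, pullback.condition]
        exact congrArg (pullback.snd f η₁ ≫ ·) (fiberHom_comp p₁))
    have lift : ∀ w : ((EtCoh.bc f).obj V).left, (pullback.fst V.hom f).base w = v →
        ∃ z, m.base z = w := by
      intro w hw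
      obtain ⟨z, hz, -⟩ := Scheme.Pullback.exists_preimage_pullback (f := pullback.fst V.hom f)
        (g := fiberHom p₁) w default (hw.trans hp₁.symm)
      let r : pullback (pullback.fst V.hom f) (fiberHom p₁) ⟶ pullback f η₁ :=
        pullback.lift (pullback.fst _ _ ≫ pullback.snd V.hom f) (pullback.snd _ _) (by
          rw [Category.assoc, ← pullback.condition, ← Category.assoc, pullback.condition,
            Category.assoc]
          exact congrArg (pullback.snd _ _ ≫ ·) (fiberHom_comp p₁))
      refine ⟨r.base z, ?_⟩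
      have e : r ≫ m = pullback.fst (pullback.fst V.hom f) (fiberHom p₁) := by
        refine pullback.hom_ext ?_ ?_
        · refine (Category.assoc _ _ _).trans ((congrArg (r ≫ ·) (pullback.lift_fst _ _ _)).trans ?_)
          rw [← Category.assoc, pullback.lift_snd]
          exact pullback.condition.symm
        · refine (Category.assoc _ _ _).trans ((congrArg (r ≫ ·) (pullback.lift_snd _ _ _)).trans ?_)
          exact pullback.lift_fst _ _ _
      exact (congrArg (fun q => q.base z) e).trans hz
    obtain ⟨z₁, hz₁⟩ := lift w₁ rfl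
    obtain ⟨z₂, hz₂⟩ := lift w₂ h12.symm
    rw [← hz₂]
    exact const_on_fibre f F t η₁ V p₁ a m (pullback.lift_fst _ _ _) (pullback.lift_snd _ _ _)
      z₁ z₂ (hz₁.symm ▸ hw₁)
  -- the set of points of `V` whose fibre lies in the agreement locus is open
  let σ : pullback f V.hom ⟶ pullback V.hom f := (pullbackSymmetry f V.hom).hom
  have hq := hsub V.left V.hom
  have hσ : σ ≫ pullback.fst V.hom f = pullback.snd f V.hom := pullbackSymmetry_hom_comp_fst _ _
  let Eset : Set V.left := (pullback.fst V.hom f).base '' O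
  have hpre : (pullback.snd f V.hom).base ⁻¹' Eset = σ.base ⁻¹' O := by
    ext w
    have hw : (pullback.snd f V.hom).base w = (pullback.fst V.hom f).base (σ.base w) :=
      (congrArg (fun q => q.base w) hσ).symm
    simp only [Set.mem_preimage, Eset, Set.mem_image, hw]
    exact ⟨fun ⟨w', hw', e⟩ => fibre w' _ e hw', fun h => ⟨_, h, rfl⟩⟩
  have hE : IsOpen Eset := hq.isOpen_preimage.1
    (hpre.symm ▸ (BaseChange.isOpen_agree _ _ _ _).preimage σ.continuous)
  let E : V.left.Opens := ⟨Eset, hE⟩
  have : Etale V.hom := V.prop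
  let W : S.Etale := Scheme.Etale.mk (E.ι ≫ V.hom)
  let g : W ⟶ V := MorphismProperty.Over.homMk E.ι rfl
  refine ⟨W, F.obj.map g.op a, ?_, ?_⟩
  · refine Stalk.sections_ext_of_germ (G f F) _ _ fun x => ?_
    refine ⟨_, inferInstance, inferInstance, Push.algPoint X x, Push.algPoint_apply X x default,
      fun pw => ?_⟩
    rw [unitApp_map, tRes_map f F t g,
      (Scheme.pointSmallEtale (Push.algPoint X x)).toPresheafFiber_w_apply ((EtCoh.bc f).map g) pw,
      (Scheme.pointSmallEtale (Push.algPoint X x)).toPresheafFiber_w_apply ((EtCoh.bc f).map g) pw]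
    refine (BaseChange.toPresheafFiber_eq_iff_mem (G f F).obj _ _ _ _).2 ?_
    rw [fiberPt_map]
    let w : ((EtCoh.bc f).obj W).left := fiberPt pw
    let e : W.left := (pullback.fst W.hom f).base w
    obtain ⟨w', hw', hw''⟩ := (show (E.ι.base e) ∈ Eset from e.2)
    refine fibre w' _ ?_ hw'
    refine hw''.trans ?_
    exact (congrArg (fun q => q.base w) (EtCoh.isPullback_bc_map f g).w).symm
  · have hz : fiberPt (liftPt f hξ V (extFiber η Ω' V p)) ∈ O :=
      (sameGerm_iff_mem f F t hξ V _ a).1 hsame
    let v := fiberPt (extFiber η Ω' V p)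
    have hv : v ∈ Eset := ⟨_, hz, congrArg
      (fun q : Spec (CommRingCat.of Ω') ⟶ V.left => q.base default) (pullback.lift_fst _ _ _)⟩
    refine ⟨⟨v, hv⟩, ?_⟩
    change V.hom.base v = s
    refine (hom_fiberPt _).trans ?_
    exact Push.algPoint_apply S s _

theorem bijective_unit
    (hsub : ∀ (S' : Scheme.{u}) (g : S' ⟶ S), Topology.IsQuotientMap (pullback.snd f g).base)
    (hc : ∀ (Ω : Type u) [Field Ω] [IsAlgClosed Ω] (s : Spec (CommRingCat.of Ω) ⟶ S),
      ConnectedSpace ↥(pullback f s)) :
    Function.Bijective (unitApp f F (EtCoh.top S)) := by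
  classical
  have hf : Function.Surjective f.base := by
    intro s
    have := hc _ (Push.algPoint S s)
    obtain ⟨z⟩ := (inferInstance : Nonempty ↥(pullback f (Push.algPoint S s)))
    refine ⟨(pullback.fst f (Push.algPoint S s)).base z, ?_⟩
    refine (congrArg (fun q : pullback f (Push.algPoint S s) ⟶ S => q.base z) pullback.condition).trans ?_
    exact Push.algPoint_apply S s _
  refine ⟨unitApp_injective f F hf _, fun t => ?_⟩
  choose W a ha w hw using exists_local f F hsub hc t
  let o : ∀ s : S, W s ⟶ EtCoh.top S := fun s => toTop (W s)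
  have hcov : ∀ x : (EtCoh.top S).left, ∃ (s : S) (y : (W s).left), (o s).left.base y = x :=
    fun x => ⟨x, w x, hw x⟩
  have hF : Presieve.IsSheaf S.smallEtaleTopology (F.obj ⋙ forget AddCommGrpCat.{u + 1}) :=
    (isSheaf_iff_isSheaf_of_type _ _).1
      ((sheafCompose S.smallEtaleTopology (forget AddCommGrpCat.{u + 1})).obj F).2
  have hS := (Presieve.isSheafFor_arrows_iff (F.obj ⋙ forget AddCommGrpCat.{u + 1}) o).1
    ((Presieve.isSheafFor_iff_generate _).2 (hF _ (ofArrows_mem W o hcov)))
  obtain ⟨q, hq, -⟩ := hS a fun i j Z gi gj _ => by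
    apply unitApp_injective f F hf Z
    change unitApp f F Z (F.obj.map gi.op (a i)) = unitApp f F Z (F.obj.map gj.op (a j))
    rw [unitApp_map, unitApp_map, ← ha, ← ha, ← tRes_map, ← tRes_map]
  refine ⟨q, Stalk.sections_ext (G f F) _ _ fun x => ?_⟩
  let y : S := (pullback.fst (EtCoh.top S).hom f).base x
  refine ⟨(EtCoh.bc f).obj (W y), (EtCoh.bc f).map (o y), ?_, ?_⟩
  · rw [← unitApp_map]
    exact (congrArg (unitApp f F (W y)) (hq y)).trans (ha y).symm
  · have e : (o y).left.base (w y) = (pullback.fst (EtCoh.top S).hom f).base x := hw y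
    obtain ⟨z, hz, hz'⟩ := Scheme.Pullback.exists_preimage_pullback
      (f := (o y).left) (g := pullback.fst (EtCoh.top S).hom f) (w y) x e
    let l : pullback (o y).left (pullback.fst (EtCoh.top S).hom f) ⟶
        ((EtCoh.bc f).obj (W y)).left :=
      (EtCoh.isPullback_bc_map f (o y)).lift (pullback.snd _ _) (pullback.fst _ _)
        pullback.condition.symm
    refine ⟨l.base z, ?_⟩
    exact (congrArg (fun m : pullback (o y).left (pullback.fst (EtCoh.top S).hom f) ⟶
      ((EtCoh.bc f).obj (EtCoh.top S)).left => m.base z) (IsPullback.lift_fst _ _ _ _)).trans hz'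

end Groth.Agent.Lib.EtSubmersive.Main
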